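import Cfsg.Agent.Lib.J3Unique.LocalDef

/-!
Tables for the linear groups on sixteen points.
-/

set_option autoImplicit false
set_option maxRecDepth 100000
set_option Elab.async false

namespace CfsgLib.J3Unique

open CfsgLib.JankoThree

/-- The permutations fixing the line of `4` pointwise. -/
def pB : Fin 12 → Fin 16 → Fin 16 :=
  ![![0, 1, 2, 3, 4, 5, 6, 7, 8, 9, 10, 11, 12, 13, 14, 15],
    ![0, 2, 3, 1, 4, 6, 7, 5, 8, 10, 11, 9, 12, 14, 15, 13],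
    ![0, 3, 1, 2, 4, 7, 5, 6, 8, 11, 9, 10, 12, 15, 13, 14],
    ![0, 5, 10, 15, 4, 1, 14, 11, 8, 13, 2, 7, 12, 9, 6, 3],
    ![0, 6, 11, 13, 4, 2, 15, 9, 8, 14, 3, 5, 12, 10, 7, 1],
    ![0, 7, 9, 14, 4, 3, 13, 10, 8, 15, 1, 6, 12, 11, 5, 2],
    ![0, 9, 14, 7, 4, 13, 10, 3, 8, 1, 6, 15, 12, 5, 2, 11],
    ![0, 10, 15, 5, 4, 14, 11, 1, 8, 2, 7, 13, 12, 6, 3, 9],
    ![0, 11, 13, 6, 4, 15, 9, 2, 8, 3, 5, 14, 12, 7, 1, 10],
    ![0, 13, 6, 11, 4, 9, 2, 15, 8, 5, 14, 3, 12, 1, 10, 7],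
    ![0, 14, 7, 9, 4, 10, 3, 13, 8, 6, 15, 1, 12, 2, 11, 5],
    ![0, 15, 5, 10, 4, 11, 1, 14, 8, 7, 13, 2, 12, 3, 9, 6]]

/-- The packed linear parts of the complement. -/
def tP : ℕ :=
  0x95d1b7f3a6e284c0e853f942ca71db607d824eb16c935fa0b4e196c387d2a5f06ea25d917fb34c80da43cb52f861e970fb73ea62d951c8405cb26f814da37e90a7c185e394f2b6d04f927ca15e836db0c963d872eb41fa5086f1a4d3b5c297e028d7b14ec6395fa01d59f3b76a2e84c0358e42f9ac17db60bf3726ae51d9c840dcfeab894567321063c98d2714befa50f4291ac7835e6db0a26ed5193bf74c805647cfdeb8a921304b1e3c69d287a5f08ab96457fdce1320c1a7583e2f49b6d02ae6915df73b4c8034ad52cb8f16e9701e4bc396782da5f09c36278d41ebfa5073fbae26159dc840efcd89ab54763210591d3f7be2a684c0a89b7546cefd1320f1864a3d2c5b97e0c52b18f6a34d7e90827de41b39c65fa04756fced9a8b21301c7ae385492fb6d037bf62ea9d15c8402bc5816fd43a7e90e62a19d5b37f4c807465decf8b9a2130924fc71a38e56db0681f3d4ac2b597e0d1957b3f2e6a84c0b98a4675ecdf13208e35249f71cadb60cdef98ba6745321043dabc25168fe970369c72d8be14fa501f68d3a45b2c97e029f4a17ce5386db07a1c3e58f294b6d0e1b4693c2d78a5f09ba85764dfec1320d7281be4936c5fa06574edfca9b82130b25cf6183ad47e90ad3425bc61f8e97053e89f2417acdb60fedcba9876543210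

/-- The linear parts of the complement. -/
def pP (a : Fin 60) (i : Fin 16) : Fin 16 := Fin.ofNat 16 (slot tP 4 (16 * a.val + i.val))

/-- The linear map with the given values on `1, 2, 4, 8`. -/
def linv (a b c d : Fin 16) (i : Fin 16) : Fin 16 :=
  ad (ad (if i.val.testBit 0 then a else 0) (if i.val.testBit 1 then b else 0))
    (ad (if i.val.testBit 2 then c else 0) (if i.val.testBit 3 then d else 0))

theorem split_index : ∀ i : Fin 16, ad (ad (if i.val.testBit 0 then 1 else 0)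
    (if i.val.testBit 1 then 2 else 0)) (ad (if i.val.testBit 2 then 4 else 0)
    (if i.val.testBit 3 then 8 else 0)) = i := by decide +kernel

theorem pB_complete : ∀ a b : Fin 16, a ≠ 0 → b ≠ 0 → a ≠ b → line a = line b →
    line (linv a b 4 8 1) = line (linv a b 4 8 3) →
    line (linv a b 4 8 5) = line (linv a b 4 8 10) →
    line (linv a b 4 8 6) = line (linv a b 4 8 11) →
    line (linv a b 4 8 7) = line (linv a b 4 8 9) →
    linv a b 4 8 5 ≠ 0 → linv a b 4 8 6 ≠ 0 → linv a b 4 8 7 ≠ 0 → linv a b 4 8 9 ≠ 0 →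
    linv a b 4 8 10 ≠ 0 → linv a b 4 8 11 ≠ 0 →
    ∃ k, ∀ i, pB k i = linv a b 4 8 i := by decide +kernel

theorem letter_factor : (∀ i, pA i = hT 4 (pB 1 i)) ∧ (∀ i, pD i = hT 10 (pB 1 i)) ∧
    (∀ i, pW i = hT 1 (pB 3 (hT 1 i))) := by decide +kernel

theorem pA_facts : ∀ i : Fin 16, pA (pA (pA i)) = i ∧ (pA i = i → i = 0) ∧
    pA (ad (ad (pA i) (pA (pA i))) 0) = ad (pA (pA i)) i ∧
    ad (pA i) (pA (pA i)) = i ∧ pD (pD (pD i)) = i ∧ pW (pW i) = i ∧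
    pA (pD i) = pD (pA i) ∧ pA (pW i) = pW (pA i) := by decide +kernel

theorem pP_mul : ∀ (a b : Fin 60) (i : Fin 16),
    pP ((⟨a⟩ : A) * ⟨b⟩).val i = pP a (pP b i) := by decide +kernel

theorem pP_facts : ∀ a : Fin 60, ((∀ i, pP a i = i) → a = 0) ∧
    (∀ i, pA (pP a i) = pP a (pA i)) := by decide +kernel

theorem pP_letters : (∀ i, pP 0 i = i) ∧ (∀ i, pP 37 i = pD i) ∧ (∀ i, pP 53 i = pW i) ∧
    (∀ i, A.pt ⟨37⟩ i = (J2Unique.dA : Equiv.Perm (Fin 5)) i) ∧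
    (∀ i, A.pt ⟨53⟩ i = (J2Unique.wA : Equiv.Perm (Fin 5)) i) := by decide +kernel

end CfsgLib.J3Unique
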