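import Cfsg.Agent.Lib.JankoThree.Setup

/-!
Finite checks in `2^(1+4) : A₅` around an elementary abelian subgroup of order `16`.
-/

set_option autoImplicit false
set_option maxRecDepth 100000
set_option Elab.async false

namespace CfsgLib.J3Unique

open CfsgLib.JankoThree

/-- The sum of two points. -/
def ad (i j : Fin 16) : Fin 16 := Fin.ofNat 16 (Nat.xor i.val j.val)

/-- The codes of the elements of `E`. -/
def cE : Fin 16 → ℕ :=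
  ![0, 16, 1, 17, 96, 112, 97, 113, 352, 368, 353, 369, 256, 272, 257, 273]

/-- The lines. -/
def line : Fin 16 → Fin 5 := ![4, 4, 4, 4, 0, 1, 2, 3, 0, 3, 1, 2, 0, 2, 3, 1]

/-- The permutations of `E` induced in `C(t)`. -/
def hT : Fin 12 → Fin 16 → Fin 16 :=
  ![![0, 1, 2, 3, 4, 5, 6, 7, 8, 9, 10, 11, 12, 13, 14, 15],
    ![0, 1, 2, 3, 5, 4, 7, 6, 10, 11, 8, 9, 15, 14, 13, 12],
    ![0, 1, 2, 3, 6, 7, 4, 5, 11, 10, 9, 8, 13, 12, 15, 14],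
    ![0, 1, 2, 3, 7, 6, 5, 4, 9, 8, 11, 10, 14, 15, 12, 13],
    ![0, 1, 2, 3, 8, 9, 10, 11, 12, 13, 14, 15, 4, 5, 6, 7],
    ![0, 1, 2, 3, 9, 8, 11, 10, 14, 15, 12, 13, 7, 6, 5, 4],
    ![0, 1, 2, 3, 10, 11, 8, 9, 15, 14, 13, 12, 5, 4, 7, 6],
    ![0, 1, 2, 3, 11, 10, 9, 8, 13, 12, 15, 14, 6, 7, 4, 5],
    ![0, 1, 2, 3, 12, 13, 14, 15, 4, 5, 6, 7, 8, 9, 10, 11],
    ![0, 1, 2, 3, 13, 12, 15, 14, 6, 7, 4, 5, 11, 10, 9, 8],
    ![0, 1, 2, 3, 14, 15, 12, 13, 7, 6, 5, 4, 9, 8, 11, 10],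
    ![0, 1, 2, 3, 15, 14, 13, 12, 5, 4, 7, 6, 10, 11, 8, 9]]

/-- Codes inducing them. -/
def hCode : Fin 12 → ℕ := ![369, 375, 379, 381, 305, 317, 311, 315, 337, 347, 349, 343]

theorem cE_lt : ∀ i, cE i < 1920 := by decide +kernel

theorem cE_mul : ∀ i j : Fin 16, cmul (cE i) (cE j) = cE (ad i j) := by decide +kernel

theorem cE_inj : ∀ i j : Fin 16, cE i = cE j → i = j := by decide +kernel

theorem cE_cent : ∀ n : Fin 1920, cmul n.val 96 = cmul 96 n.val → ∃ i, cE i = n.val := by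
  decide +kernel

theorem cE_lt_iff : ∀ i : Fin 16, cE i < 32 ↔ line i = 4 := by decide +kernel

theorem outside_class : ∀ n : Fin 1920, 32 ≤ n.val → cmul n.val n.val = 0 → cty n.val = cty 96 := by
  decide +kernel

theorem no_eight : ∀ a b c : Fin 32, cmul a a = 0 → cmul b b = 0 → cmul c c = 0 →
    cmul a b = cmul b a → cmul a c = cmul c a → cmul b c = cmul c b →
    a.val = 0 ∨ b.val = 0 ∨ a = b ∨ c.val = 0 ∨ c = a ∨ c = b ∨ c.val = cmul a b := by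
  decide +kernel

theorem hCode_check : ∀ h : Fin 12, hCode h < 1920 ∧
    ∀ i, cmul (hCode h) (cE i) = cmul (cE (hT h i)) (hCode h) := by decide +kernel

theorem hT_inj : ∀ h h' : Fin 12, (∀ i, hT h i = hT h' i) → h = h' := by decide +kernel

theorem ad_facts : ∀ i j : Fin 16,
    ad i i = 0 ∧ ad i 0 = i ∧ ad 0 i = i ∧ ad i j = ad j i ∧ ad i (ad i j) = j := by
  decide +kernel

theorem plane_two : ∀ p : Fin 16, p ≠ 0 → p ≠ 2 →
    (hT 4 p = p ∨ hT 4 p = ad 2 p) → p = 1 ∨ p = 3 := by decide +kernel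

theorem plane_three : ∀ p : Fin 16, p ≠ 0 → p ≠ 3 →
    (hT 4 p = 3 ∨ hT 4 p = p ∨ hT 4 p = ad 3 p) → p = 1 ∨ p = 2 := by decide +kernel

theorem plane_four : ∀ p : Fin 16, line p ≠ 4 → p ≠ 4 → line (ad 4 p) ≠ 4 →
    (∀ h : Fin 12, (hT h 4 ∈ [4, p, ad 4 p] ∨ hT h p ∈ [4, p, ad 4 p] ∨
      hT h (ad 4 p) ∈ [4, p, ad 4 p]) →
      hT h 4 ∈ [4, p, ad 4 p] ∧ hT h p ∈ [4, p, ad 4 p] ∧ hT h (ad 4 p) ∈ [4, p, ad 4 p]) →
    p = 8 ∨ p = 12 := by decide +kernel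

theorem plane_all : ∀ i : Fin 16, line i ≠ 4 → ∃ h : Fin 12, hT h 4 = i ∧
    ∀ j, line j = line i ↔ (j = i ∨ j = hT h 8 ∨ j = hT h 12) := by decide +kernel

theorem line_four : ∀ i : Fin 16, line i = 4 ↔ (i = 0 ∨ i = 1 ∨ i = 2 ∨ i = 3) := by decide +kernel

end CfsgLib.J3Unique
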